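import Groth.Agent.SHExtendLib.Main

/-! # Extension of covers split over the strict henselization -/

set_option autoImplicit false
set_option linter.style.haveILetI false
set_option backward.isDefEq.respectTransparency false
set_option backward.isDefEq.respectTransparency.types false
set_option maxHeartbeats 1000000
set_option synthInstance.maxHeartbeats 400000

universe u

open TensorProduct CategoryTheory CategoryTheory.Limits AlgebraicGeometry

noncomputable section

namespace SHExtend

variable {A R : Type u} [CommRing A] [CommRing R] [Algebra A R] {ι : Type u} [Fintype ι] [DecidableEq ι]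
  (D : Datum A R ι)

/-- The descended cover. -/
abbrev yD : Spec (CommRingCat.of D.algebra) ⟶ Spec (CommRingCat.of A) :=
  Spec.map (CommRingCat.ofHom (algebraMap A D.algebra))

/-- The sections of the descended cover over the strict henselization. -/
def tD (i : ι) : Spec (CommRingCat.of R) ⟶ Spec (CommRingCat.of D.algebra) :=
  Spec.map (CommRingCat.ofHom ((Pi.evalAlgHom A (fun _ : ι => R) i).comp D.algebra.val).toRingHom)

omit [DecidableEq ι] in
theorem isPullback_sigma_pi [Module.Flat A R] {κ : Type u} [Fintype κ] [DecidableEq κ] (D : Datum A R κ) :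
    IsPullback (Sigma.desc (tD D)) (Sigma.desc fun _ : κ => 𝟙 (Spec (CommRingCat.of R))) (yD D) (Spec.map (CommRingCat.ofHom (algebraMap A R))) := by
  let ν : R ⊗[A] D.algebra ≃+* (κ → R) := (AlgEquiv.ofBijective D.comparison D.bijective_comparison).toRingEquiv
  have h0 := isPullback_SpecMap_of_isPushout _ _ _ _ (CommRingCat.isPushout_tensorProduct A R D.algebra).flip
  let R' : κ → CommRingCat.{u} := fun _ => CommRingCat.of R
  haveI : IsIso (CommRingCat.ofHom (ν : R ⊗[A] D.algebra →+* (κ → R))) := ν.toCommRingCatIso.isIso_hom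
  let iso : (∐ fun _ : κ => Spec (CommRingCat.of R)) ≅ Spec (CommRingCat.of (R ⊗[A] D.algebra)) :=
    asIso (sigmaSpec R' ≫ Spec.map (CommRingCat.ofHom (ν : R ⊗[A] D.algebra →+* (κ → R))))
  refine h0.of_iso iso.symm (Iso.refl _) (Iso.refl _) (Iso.refl _) ?_ ?_ (by simp) (by simp)
  · simp only [Iso.refl_hom, Category.comp_id, Iso.symm_hom]
    rw [Iso.eq_inv_comp]
    refine Sigma.hom_ext _ _ fun i => ?_
    simp only [iso, asIso_hom, Category.assoc, Sigma.ι_desc, tD]
    erw [ι_sigmaSpec_assoc]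
    rw [← Spec.map_comp, ← Spec.map_comp]
    congr 1
    ext c
    show D.comparison (1 ⊗ₜ c) i = _
    rw [D.comparison_tmul, one_mul]
    rfl
  · simp only [Iso.refl_hom, Category.comp_id, Iso.symm_hom]
    rw [Iso.eq_inv_comp]
    refine Sigma.hom_ext _ _ fun i => ?_
    simp only [iso, asIso_hom, Category.assoc, Sigma.ι_desc]
    erw [ι_sigmaSpec_assoc]
    rw [← Spec.map_comp, ← Spec.map_comp, ← Spec.map_id]
    congr 1
    ext r
    show D.comparison (r ⊗ₜ 1) i = _
    rw [D.comparison_tmul]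
    simp

omit [Fintype ι] in
/-- Agreement of the sections on the locus of an idempotent. -/
theorem tD_agree {κ : Type u} [Fintype κ] [DecidableEq κ] (D : Datum A R κ) {T : Scheme.{u}}
    (g : T ⟶ Spec (CommRingCat.of (R ⊗[A] R))) (i j : κ)
    (h : Set.range g ⊆ (PrimeSpectrum.basicOpen (D.e i j) : Set (PrimeSpectrum (R ⊗[A] R)))) :
    g ≫ q₁ A R ≫ tD D i = g ≫ q₂ A R ≫ tD D j := by
  let L := Localization.Away (D.e i j)
  let l := Spec.map (CommRingCat.ofHom (algebraMap (R ⊗[A] R) L))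
  haveI : IsOpenImmersion l := IsOpenImmersion.of_isLocalization (D.e i j)
  let k := IsOpenImmersion.lift l g (by
    rw [show Set.range l = _ from PrimeSpectrum.localization_away_comap_range L (D.e i j)]
    exact h)
  rw [← IsOpenImmersion.lift_fac l g (by
    rw [show Set.range l = _ from PrimeSpectrum.localization_away_comap_range L (D.e i j)]
    exact h), Category.assoc, Category.assoc]
  congr 1
  simp only [l, tD, q₁, q₂, ← Spec.map_comp]
  congr 1
  ext c
  show algebraMap (R ⊗[A] R) L (c.1 i ⊗ₜ 1) = algebraMap (R ⊗[A] R) L (1 ⊗ₜ c.1 j)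
  refine (IsLocalization.Away.algebraMap_isUnit (D.e i j)).mul_left_cancel ?_
  rw [← map_mul, ← map_mul, D.mul_include]

variable [IsLocalRing A]

/-- The restriction of the descended cover. -/
abbrev yU := pullback.snd (yD D) (FEt.puncturedSpec A).ι

/-- The sections of the restricted descended cover. -/
def tU (i : ι) : U' A R ⟶ pullback (yD D) (FEt.puncturedSpec A).ι :=
  pullback.lift (pullback.snd _ _ ≫ tD D i) (pullback.fst _ _) (by
    rw [Category.assoc, tD, yD, ← Spec.map_comp, pullback.condition]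
    congr 2)

theorem tU_snd (i : ι) : tU D i ≫ yU D = pullback.fst _ _ := pullback.lift_snd _ _ _

theorem isPullback_tU [Module.Flat A R] : IsPullback (Sigma.desc (tU D)) (Sigma.desc fun _ : ι => 𝟙 (U' A R))
    (yU D) (pullback.fst (FEt.puncturedSpec A).ι (pR A R)) := by
  have hd : IsPullback (Limits.Sigma.map fun _ : ι => pullback.snd (FEt.puncturedSpec A).ι (pR A R))
      (Sigma.desc fun _ : ι => 𝟙 (U' A R)) (Sigma.desc fun _ : ι => 𝟙 (Spec (CommRingCat.of R)))
      (pullback.snd (FEt.puncturedSpec A).ι (pR A R)) :=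
    (DescLib.isPullback_sigma (π := pullback.snd (FEt.puncturedSpec A).ι (pR A R))
      (fun _ : ι => 𝟙 (Spec (CommRingCat.of R))) (fun _ => 𝟙 (U' A R)) (fun _ => pullback.snd _ _)
      (fun _ => IsPullback.of_horiz_isIso ⟨by simp⟩)).flip
  have h1 := hd.paste_horiz (isPullback_sigma_pi D)
  refine IsPullback.of_right ?_ (Sigma.hom_ext _ _ fun i => by simp [tU_snd]) (IsPullback.of_hasPullback (yD D) _)
  convert h1 using 1
  · refine Sigma.hom_ext _ _ fun i => ?_
    simp [tU]
  · exact pullback.condition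

variable {V : Scheme.{u}} (v : V ⟶ (FEt.puncturedSpec A : Scheme.{u}))
  (e : pullback v (pullback.fst (FEt.puncturedSpec A).ι (pR A R)) ≅ ∐ fun _ : ι => U' A R)
  (he : e.hom ≫ Sigma.desc (fun _ : ι => 𝟙 (U' A R)) = pullback.snd _ _)

/-- The comparison map before descent. -/
def bigH : pullback v (pullback.fst (FEt.puncturedSpec A).ι (pR A R)) ⟶ pullback (yD D) (FEt.puncturedSpec A).ι :=
  e.hom ≫ Sigma.desc (tU D)

include he

theorem bigH_compat
    (hD : ∀ i j, ∀ y ∈ off A (R ⊗[A] R), y ∈ PrimeSpectrum.basicOpen (D.e i j) ↔ y ∈ piece v e he i j)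
    {Z : Scheme.{u}} (g₁ g₂ : Z ⟶ pullback v (pullback.fst (FEt.puncturedSpec A).ι (pR A R)))
    (h : g₁ ≫ pullback.fst _ _ = g₂ ≫ pullback.fst _ _) : g₁ ≫ bigH D v e = g₂ ≫ bigH D v e := by
  refine Scheme.hom_ext_of_forall _ _ fun z => ?_
  let i := FEtSplit.sIdx ((g₁ ≫ e.hom) z)
  let j := FEtSplit.sIdx ((g₂ ≫ e.hom) z)
  let O : Z.Opens := (g₁ ≫ e.hom) ⁻¹ᵁ (Sigma.ι (fun _ : ι => U' A R) i).opensRange ⊓
    (g₂ ≫ e.hom) ⁻¹ᵁ (Sigma.ι (fun _ : ι => U' A R) j).opensRange
  refine ⟨O, ⟨FEtSplit.mem_range_sIdx ((g₁ ≫ e.hom) z), FEtSplit.mem_range_sIdx ((g₂ ≫ e.hom) z)⟩, ?_⟩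
  let k := IsOpenImmersion.lift (Sigma.ι (fun _ : ι => U' A R) i) (O.ι ≫ g₁ ≫ e.hom)
    (by rintro _ ⟨t, rfl⟩; exact t.2.1)
  let l := IsOpenImmersion.lift (Sigma.ι (fun _ : ι => U' A R) j) (O.ι ≫ g₂ ≫ e.hom)
    (by rintro _ ⟨t, rfl⟩; exact t.2.2)
  have hk : k ≫ Sigma.ι (fun _ : ι => U' A R) i = O.ι ≫ g₁ ≫ e.hom := IsOpenImmersion.lift_fac _ _ _
  have hl : l ≫ Sigma.ι (fun _ : ι => U' A R) j = O.ι ≫ g₂ ≫ e.hom := IsOpenImmersion.lift_fac _ _ _
  simp only [bigH, ← Category.assoc]
  simp only [Category.assoc] at hk hl ⊢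
  rw [← reassoc_of% hk, ← reassoc_of% hl, Sigma.ι_desc, Sigma.ι_desc]
  have hsec : k ≫ sec v e i = l ≫ sec v e j := by
    simp only [sec, reassoc_of% hk, reassoc_of% hl, Iso.hom_inv_id_assoc, h]
  have hfst : k ≫ pullback.fst _ _ = l ≫ pullback.fst _ _ := by
    have := congrArg (fun m => m ≫ v) hsec
    simpa only [Category.assoc, sec_comp v e he] using this
  have hcomp : (k ≫ pullback.snd _ _) ≫ pR A R = (l ≫ pullback.snd _ _) ≫ pR A R := by
    rw [Category.assoc, Category.assoc, ← pullback.condition, reassoc_of% hfst]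
  obtain ⟨g, hgk, hgl⟩ : ∃ g : O.toScheme ⟶ Spec (CommRingCat.of (R ⊗[A] R)),
      g ≫ q₁ A R = k ≫ pullback.snd _ _ ∧ g ≫ q₂ A R = l ≫ pullback.snd _ _ := by
    have hP := isPullback_SpecMap_of_isPushout _ _ _ _ (CommRingCat.isPushout_tensorProduct A R R)
    exact ⟨hP.lift _ _ hcomp, hP.lift_fst _ _ _, hP.lift_snd _ _ _⟩
  obtain ⟨g', hg', hgk', hgl'⟩ := exists_liftW g (fun t => by
    show PrimeSpectrum.comap (algebraMap A (R ⊗[A] R)) (g t) ∉ ({IsLocalRing.closedPoint A} : Set _)
    have h1 : (g ≫ q₁ A R) t ∈ off A R := by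
      rw [hgk, ← range_snd]
      exact ⟨k t, rfl⟩
    intro h2
    refine h1 ?_
    rw [Set.mem_singleton_iff] at h2 ⊢
    rw [← h2, Scheme.Hom.comp_apply]
    show PrimeSpectrum.comap _ (PrimeSpectrum.comap _ (g t)) = _
    rw [← PrimeSpectrum.comap_comp_apply]
    rfl) k l hgk.symm hgl.symm
  have hr := range_sub_piece v e he g' i j (by rw [reassoc_of% hgk', reassoc_of% hgl']; exact hsec)
  apply pullback.hom_ext
  · simp only [Category.assoc, tU, pullback.lift_fst]
    rw [← reassoc_of% hgk, ← reassoc_of% hgl]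
    refine tD_agree D g i j ?_
    rintro _ ⟨t, rfl⟩
    have h3 : g t ∈ piece v e he i j := hg' ▸ hr ⟨t, rfl⟩
    exact (hD i j _ (piece_subset v e he i j h3)).2 h3
  · simp only [Category.assoc, tU, pullback.lift_snd]
    exact hfst

theorem exists_iso_restrict [Module.FaithfullyFlat A R]
    (hD : ∀ i j, ∀ y ∈ off A (R ⊗[A] R), y ∈ PrimeSpectrum.basicOpen (D.e i j) ↔ y ∈ piece v e he i j) :
    ∃ g : V ≅ pullback (yD D) (FEt.puncturedSpec A).ι, g.hom ≫ yU D = v := by
  let p := pullback.fst (FEt.puncturedSpec A).ι (pR A R)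
  haveI : Flat (pR A R) := by
    rw [HasRingHomProperty.Spec_iff (P := @Flat), CommRingCat.hom_ofHom, RingHom.flat_algebraMap_iff]
    infer_instance
  haveI : Surjective (pR A R) := ⟨PrimeSpectrum.comap_surjective_of_faithfullyFlat⟩
  haveI : Flat p := MorphismProperty.pullback_fst _ _ ‹Flat (pR A R)›
  haveI : Surjective p := MorphismProperty.pullback_fst _ _ ‹Surjective (pR A R)›
  haveI : QuasiCompact p := MorphismProperty.pullback_fst _ _ (inferInstance : QuasiCompact (pR A R))
  haveI : Flat (pullback.fst v p) := MorphismProperty.pullback_fst _ _ ‹Flat p›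
  haveI : Surjective (pullback.fst v p) := MorphismProperty.pullback_fst _ _ ‹Surjective p›
  haveI : QuasiCompact (pullback.fst v p) := MorphismProperty.pullback_fst _ _ ‹QuasiCompact p›
  let g : V ⟶ pullback (yD D) (FEt.puncturedSpec A).ι :=
    EffectiveEpi.desc (pullback.fst v p) (bigH D v e) fun g₁ g₂ h => bigH_compat D v e he hD g₁ g₂ h
  have hg : pullback.fst v p ≫ g = bigH D v e := EffectiveEpi.fac _ _ _
  have hgv : g ≫ yU D = v := by
    rw [← cancel_epi (pullback.fst v p), reassoc_of% hg, pullback.condition]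
    have h1 : Sigma.desc (tU D) ≫ yU D = Sigma.desc (fun _ : ι => 𝟙 (U' A R)) ≫ p :=
      Sigma.hom_ext _ _ fun i => by simp [tU_snd, p]
    simp only [bigH, Category.assoc]
    rw [h1, reassoc_of% he]
  let g' : pullback v p ⟶ pullback (yU D) p :=
    pullback.lift (pullback.fst v p ≫ g) (pullback.snd v p) (by rw [Category.assoc, hgv, pullback.condition])
  have hg' : g' = e.hom ≫ (isPullback_tU D).isoPullback.hom := by
    apply pullback.hom_ext
    · simp [g', hg, bigH]
      exact ((isPullback_tU D).isoPullback_hom_fst).symm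
    · simp [g', p, he]
  haveI : IsIso g' := by rw [hg']; infer_instance
  have hsq : IsPullback g' (pullback.fst v p) (pullback.fst (yU D) p) g := by
    refine IsPullback.flip (IsPullback.of_bot ?_ (by simp [g']) (IsPullback.of_hasPullback (yU D) p))
    simp only [g', pullback.lift_snd, hgv]
    exact IsPullback.of_hasPullback v p
  haveI : IsIso g := MorphismProperty.of_isPullback_of_descendsAlong (P := MorphismProperty.isomorphisms Scheme.{u})
    (Q := @Surjective ⊓ @Flat ⊓ @QuasiCompact) hsq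
    ⟨⟨MorphismProperty.pullback_fst _ _ ‹Surjective p›, MorphismProperty.pullback_fst _ _ ‹Flat p›⟩,
      MorphismProperty.pullback_fst _ _ ‹QuasiCompact p›⟩ (inferInstanceAs (IsIso g'))
  exact ⟨asIso g, hgv⟩

omit D he e v

theorem extends_of_split (A : Type u) [CommRing A] [IsLocalRing A] (R : Type u) [CommRing R] [IsLocalRing R]
    [Algebra A R] [IsLocalHom (algebraMap A R)] [Hensel.IsStrictHenselization A R]
    [CompactSpace (FEt.puncturedSpec A : Scheme.{u})]
    (hc : ConnectedSpace ↑(pullback (FEt.puncturedSpec A).ι (pR A R)))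
    (V : FEt.Cat (FEt.puncturedSpec A : Scheme.{u}))
    (hV : Pi1.IsSplit ((FEt.restrict (pullback.fst (FEt.puncturedSpec A).ι (pR A R))).obj V)) :
    ∃ Y : FEt.Cat (Spec (CommRingCat.of A)), Nonempty ((FEt.restrict (FEt.puncturedSpec A).ι).obj Y ≅ V) := by
  classical
  obtain ⟨ι, hι, e, he⟩ := FEtSplit.exists_splits_of_isSplit hV
  haveI := Fintype.ofFinite ι
  haveI : Module.FaithfullyFlat A R := Groth.Agent.S0539.result A R
  have hA : IsCompact ({IsLocalRing.closedPoint A}ᶜ : Set (PrimeSpectrum A)) :=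
    isCompact_iff_compactSpace.2 ‹CompactSpace (FEt.puncturedSpec A : Scheme.{u})›
  haveI := hc
  have hoff : off A R = ({IsLocalRing.closedPoint R}ᶜ : Set (PrimeSpectrum R)) := Set.ext fun t => by
    refine not_congr ⟨eq_closedPoint A R t, fun h => ?_⟩
    rw [Set.mem_singleton_iff.1 h]
    exact IsLocalRing.comap_closedPoint (algebraMap A R)
  have hconn : _root_.IsPreconnected ({IsLocalRing.closedPoint R}ᶜ : Set (PrimeSpectrum R)) := by
    rw [← hoff, ← range_snd]
    exact (isConnected_range (pullback.snd (FEt.puncturedSpec A).ι (pR A R)).continuous).isPreconnected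
  have hne : ∃ p : PrimeSpectrum A, p ≠ IsLocalRing.closedPoint A := by
    obtain ⟨x⟩ := (inferInstance : Nonempty ↥(U' A R))
    exact ⟨_, (pullback.fst (FEt.puncturedSpec A).ι (pR A R) x).2⟩
  let v : V.left ⟶ (FEt.puncturedSpec A : Scheme.{u}) := V.hom
  obtain ⟨D, hD⟩ := exists_datum (A := A) (R := R) v e he hA hne hconn
  obtain ⟨hfin, het⟩ := D.finite_etale
  obtain ⟨g, hg⟩ := exists_iso_restrict D v e he hD
  refine ⟨MorphismProperty.Over.mk ⊤ (yD D) ⟨?_, ?_⟩, ⟨(MorphismProperty.Over.isoMk g hg).symm⟩⟩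
  · exact (IsFinite.SpecMap_iff _).2 (RingHom.finite_algebraMap.2 hfin)
  · exact (HasRingHomProperty.Spec_iff (P := @Etale)).2 (RingHom.etale_algebraMap.2 het)

end SHExtend

end
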