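import Mathlib.RingTheory.Etale.Descent
import Mathlib.RingTheory.Flat.FaithfullyFlat.Basic
import Mathlib.LinearAlgebra.TensorProduct.Pi
import Mathlib.RingTheory.Etale.Pi

/-! # Descent data for split algebras given by idempotent matrices -/

set_option autoImplicit false
set_option linter.style.haveILetI false
set_option backward.isDefEq.respectTransparency false
set_option backward.isDefEq.respectTransparency.types false
set_option maxHeartbeats 1000000

universe u

open TensorProduct

noncomputable section

namespace SHExtend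

variable (A B : Type u) [CommRing A] [CommRing B] [Algebra A B]

/-- First and second factors in the triple product. -/
def p12 : B ⊗[A] B →ₐ[A] B ⊗[A] (B ⊗[A] B) :=
  Algebra.TensorProduct.map (AlgHom.id A B) Algebra.TensorProduct.includeLeft

/-- First and third factors in the triple product. -/
def p13 : B ⊗[A] B →ₐ[A] B ⊗[A] (B ⊗[A] B) :=
  Algebra.TensorProduct.map (AlgHom.id A B) Algebra.TensorProduct.includeRight

/-- Second and third factors in the triple product. -/
def p23 : B ⊗[A] B →ₐ[A] B ⊗[A] (B ⊗[A] B) := Algebra.TensorProduct.includeRight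

/-- The cyclic permutation of the factors. -/
def rot : B ⊗[A] (B ⊗[A] B) →ₐ[A] B ⊗[A] (B ⊗[A] B) :=
  Algebra.TensorProduct.lift
    ((Algebra.TensorProduct.includeRight).comp (Algebra.TensorProduct.includeLeft : B →ₐ[A] B ⊗[A] B))
    (Algebra.TensorProduct.lift
      ((Algebra.TensorProduct.includeRight).comp (Algebra.TensorProduct.includeRight : B →ₐ[A] B ⊗[A] B))
      (Algebra.TensorProduct.includeLeft : B →ₐ[A] B ⊗[A] (B ⊗[A] B)) fun _ _ => Commute.all _ _)
    fun _ _ => Commute.all _ _

/-- The swap of the factors. -/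
abbrev sw : B ⊗[A] B →ₐ[A] B ⊗[A] B := (Algebra.TensorProduct.comm A B B).toAlgHom

/-- Contracting the second and third factors onto the first after moving the second last. -/
def contract : B ⊗[A] (B ⊗[A] B) →ₐ[A] B ⊗[A] B :=
  Algebra.TensorProduct.lift (Algebra.TensorProduct.includeLeft : B →ₐ[A] B ⊗[A] B) (sw A B)
    fun _ _ => Commute.all _ _

theorem rot_p12 (x : B ⊗[A] B) : rot A B (p12 A B x) = p23 A B x := by
  induction x using TensorProduct.induction_on with
  | zero => simp
  | tmul a b => simp [rot, p12, p23, Algebra.TensorProduct.tmul_mul_tmul]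
  | add x y hx hy => simp [hx, hy]

theorem rot_p13 (x : B ⊗[A] B) : rot A B (p13 A B x) = p12 A B (sw A B x) := by
  induction x using TensorProduct.induction_on with
  | zero => simp
  | tmul a b => simp [rot, p12, p13, sw, Algebra.TensorProduct.tmul_mul_tmul]
  | add x y hx hy => simp [hx, hy]

theorem rot_p23 (x : B ⊗[A] B) : rot A B (p23 A B x) = p13 A B (sw A B x) := by
  induction x using TensorProduct.induction_on with
  | zero => simp
  | tmul a b => simp [rot, p13, p23, sw, Algebra.TensorProduct.tmul_mul_tmul]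
  | add x y hx hy => simp [hx, hy]

theorem contract_p12 (x : B ⊗[A] B) : contract A B (p12 A B x) = x := by
  induction x using TensorProduct.induction_on with
  | zero => simp
  | tmul a b => simp [contract, p12, sw, Algebra.TensorProduct.tmul_mul_tmul]
  | add x y hx hy => simp [hx, hy]

theorem contract_p13 (x : B ⊗[A] B) :
    contract A B (p13 A B x) = (Algebra.TensorProduct.lmul' A x) ⊗ₜ 1 := by
  induction x using TensorProduct.induction_on with
  | zero => simp
  | tmul a b => simp [contract, p13, sw, Algebra.TensorProduct.tmul_mul_tmul]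
  | add x y hx hy => simp [hx, hy, TensorProduct.add_tmul]

theorem contract_p23 (x : B ⊗[A] B) : contract A B (p23 A B x) = sw A B x := by
  show contract A B (1 ⊗ₜ x) = _
  simp [contract]
  erw [← Algebra.TensorProduct.one_def, one_mul]

/-- A descent datum on copies of `B` given by idempotents. -/
structure Datum (ι : Type u) [Fintype ι] [DecidableEq ι] where
  e : ι → ι → B ⊗[A] B
  idem : ∀ i j, IsIdempotentElem (e i j)
  orth : ∀ i j k, j ≠ k → e i j * e i k = 0
  sum_eq : ∀ i, ∑ j, e i j = 1
  diag : ∀ i j, Algebra.TensorProduct.lmul' A (e i j) = if i = j then 1 else 0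
  cocycle : ∀ i k, p13 A B (e i k) = ∑ j, p12 A B (e i j) * p23 A B (e j k)

variable {A B} {ι : Type u} [Fintype ι] [DecidableEq ι] (D : Datum A B ι)

namespace Datum

/-- The defect of being fixed by the datum. -/
def defect : (ι → B) →ₗ[A] (ι → B ⊗[A] B) :=
  LinearMap.pi fun i => (∑ j, (LinearMap.mulLeft A (D.e i j)).comp
      ((Algebra.TensorProduct.includeRight : B →ₐ[A] B ⊗[A] B).toLinearMap.comp (LinearMap.proj j))) -
    (Algebra.TensorProduct.includeLeft : B →ₐ[A] B ⊗[A] B).toLinearMap.comp (LinearMap.proj i)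

theorem defect_apply (v : ι → B) (i : ι) :
    D.defect v i = (∑ j, D.e i j * (1 ⊗ₜ v j)) - v i ⊗ₜ 1 := by
  simp [defect]

theorem sum_mul_sum (i : ι) (v w : ι → B ⊗[A] B) :
    (∑ j, D.e i j * v j) * (∑ k, D.e i k * w k) = ∑ j, D.e i j * (v j * w j) := by
  rw [Finset.sum_mul]
  refine Finset.sum_congr rfl fun j _ => ?_
  rw [Finset.mul_sum, Finset.sum_eq_single j (fun k _ hk => by
    linear_combination (v j * w k) * D.orth i j k hk.symm) (fun h => absurd (Finset.mem_univ j) h)]
  linear_combination (v j * w j) * (D.idem i j).eq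

/-- The descended algebra. -/
def algebra : Subalgebra A (ι → B) where
  carrier := {v | ∀ i, ∑ j, D.e i j * (1 ⊗ₜ v j) = v i ⊗ₜ 1}
  mul_mem' := fun {v w} hv hw i => by
    show ∑ j, D.e i j * (1 ⊗ₜ (v j * w j)) = (v i * w i) ⊗ₜ 1
    calc ∑ j, D.e i j * (1 ⊗ₜ (v j * w j))
        = ∑ j, D.e i j * ((1 ⊗ₜ v j) * (1 ⊗ₜ w j)) := by simp [Algebra.TensorProduct.tmul_mul_tmul]
      _ = (∑ j, D.e i j * (1 ⊗ₜ v j)) * (∑ k, D.e i k * (1 ⊗ₜ w k)) := (D.sum_mul_sum i _ _).symm
      _ = (v i * w i) ⊗ₜ 1 := by rw [hv i, hw i, Algebra.TensorProduct.tmul_mul_tmul, mul_one]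
  add_mem' := fun {v w} hv hw i => by
    simp only [Pi.add_apply, TensorProduct.tmul_add, TensorProduct.add_tmul, mul_add, Finset.sum_add_distrib, hv i,
      hw i]
  algebraMap_mem' := fun a i => by
    simp only [Pi.algebraMap_apply, ← Finset.sum_mul, D.sum_eq i, one_mul]
    rw [Algebra.algebraMap_eq_smul_one, TensorProduct.tmul_smul, TensorProduct.smul_tmul']

theorem mem_algebra_iff (v : ι → B) : v ∈ D.algebra ↔ D.defect v = 0 := by
  rw [funext_iff]
  refine forall_congr' fun i => ?_
  rw [defect_apply, Pi.zero_apply, sub_eq_zero]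

/-- The comparison with copies of `B`. -/
def comparison : B ⊗[A] D.algebra →ₐ[B] (ι → B) :=
  Algebra.TensorProduct.lift (Algebra.ofId B _) D.algebra.val fun _ _ => Commute.all _ _

theorem comparison_tmul (b : B) (c : D.algebra) (i : ι) : D.comparison (b ⊗ₜ c) i = b * c.1 i := by
  simp [comparison]

/-- The candidate inverse of the comparison. -/
def beta (v : ι → B) (i : ι) : B ⊗[A] B := ∑ j, sw A B (D.e i j) * (v j ⊗ₜ 1)

theorem lmul_beta (v : ι → B) (i : ι) : Algebra.TensorProduct.lmul' A (D.beta v i) = v i := by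
  have h : ∀ x : B ⊗[A] B, Algebra.TensorProduct.lmul' A (sw A B x) = Algebra.TensorProduct.lmul' A x := fun x => by
    induction x using TensorProduct.induction_on with
    | zero => simp
    | tmul a b => simp [sw, mul_comm]
    | add x y hx hy => simp only [map_add, hx, hy]
  rw [beta, map_sum]
  simp only [map_mul, h, D.diag, Algebra.TensorProduct.lmul'_apply_tmul, mul_one, ite_mul, one_mul, zero_mul]
  simp

theorem beta_fixed (v : ι → B) (i : ι) :
    ∑ j, p23 A B (D.e i j) * p13 A B (D.beta v j) = p12 A B (D.beta v i) := by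
  have hv : ∀ b : B, p13 A B (b ⊗ₜ 1) = p12 A B (b ⊗ₜ 1) := fun b => by simp [p12, p13]
  simp only [beta, map_sum, map_mul, hv, Finset.mul_sum]
  rw [Finset.sum_comm]
  refine Finset.sum_congr rfl fun k _ => ?_
  have := congrArg (rot A B) (D.cocycle i k)
  simp only [map_sum, map_mul, rot_p12, rot_p13, rot_p23] at this
  rw [this, Finset.sum_mul]
  simp only [mul_assoc]

theorem eq_beta {w : ι → B ⊗[A] B} (hw : ∀ i, ∑ j, p23 A B (D.e i j) * p13 A B (w j) = p12 A B (w i)) :
    w = D.beta fun j => Algebra.TensorProduct.lmul' A (w j) := by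
  funext i
  have := congrArg (contract A B) (hw i)
  simp only [map_sum, map_mul, contract_p12, contract_p13, contract_p23] at this
  exact this.symm

/-- The base change of the descended algebra as tuples. -/
def emb : B ⊗[A] D.algebra →ₗ[A] (ι → B ⊗[A] B) :=
  (TensorProduct.piRight A A B fun _ : ι => B).toLinearMap.comp (D.algebra.val.toLinearMap.lTensor B)

theorem emb_tmul (b : B) (c : D.algebra) (i : ι) : D.emb (b ⊗ₜ c) i = b ⊗ₜ c.1 i := by
  simp [emb, TensorProduct.piRightHom_tmul]

theorem lmul_emb (x : B ⊗[A] D.algebra) (i : ι) : Algebra.TensorProduct.lmul' A (D.emb x i) = D.comparison x i := by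
  induction x using TensorProduct.induction_on with
  | zero => simp
  | tmul b c => rw [emb_tmul, comparison_tmul, Algebra.TensorProduct.lmul'_apply_tmul]
  | add x y hx hy => simp only [map_add, Pi.add_apply, hx, hy]

theorem piRight_defect (z : B ⊗[A] (ι → B)) (i : ι) :
    TensorProduct.piRight A A B (fun _ : ι => B ⊗[A] B) (D.defect.lTensor B z) i =
      (∑ j, p23 A B (D.e i j) * p13 A B (TensorProduct.piRight A A B (fun _ : ι => B) z j)) -
        p12 A B (TensorProduct.piRight A A B (fun _ : ι => B) z i) := by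
  induction z using TensorProduct.induction_on with
  | zero => simp
  | tmul b v =>
    simp [TensorProduct.piRightHom_tmul, defect_apply, p12, p13, p23, TensorProduct.tmul_sub, TensorProduct.tmul_sum,
      Algebra.TensorProduct.tmul_mul_tmul]
  | add x y hx hy =>
    simp only [map_add, Pi.add_apply, hx, hy, mul_add, Finset.sum_add_distrib]
    abel

theorem bijective_comparison [Module.Flat A B] : Function.Bijective D.comparison := by
  have hex : Function.Exact D.algebra.val.toLinearMap D.defect := fun v => by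
    rw [← mem_algebra_iff]
    exact ⟨fun h => ⟨⟨v, h⟩, rfl⟩, by rintro ⟨c, rfl⟩; exact c.2⟩
  have hexB := Module.Flat.lTensor_exact (M := B) hex
  have hembinj : Function.Injective D.emb := (TensorProduct.piRight A A B fun _ : ι => B).injective.comp
    (Module.Flat.lTensor_preserves_injective_linearMap _ Subtype.val_injective)
  refine ⟨fun x y hxy => hembinj ?_, fun v => ?_⟩
  · have hfix : ∀ x : B ⊗[A] D.algebra, D.emb x = D.beta (D.comparison x) := fun x => by
      have h0 : D.defect.lTensor B (D.algebra.val.toLinearMap.lTensor B x) = 0 := (hexB _).2 ⟨x, rfl⟩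
      refine (D.eq_beta fun i => ?_).trans (congrArg D.beta (funext fun j => D.lmul_emb x j))
      have := D.piRight_defect (D.algebra.val.toLinearMap.lTensor B x) i
      rw [h0, map_zero, Pi.zero_apply, eq_comm, sub_eq_zero] at this
      exact this
    rw [hfix, hfix, hxy]
  · let z := (TensorProduct.piRight A A B fun _ : ι => B).symm (D.beta v)
    have h0 : D.defect.lTensor B z = 0 := (TensorProduct.piRight A A B fun _ : ι => B ⊗[A] B).injective (funext fun i => by
      rw [D.piRight_defect, LinearEquiv.apply_symm_apply, D.beta_fixed, sub_self, map_zero, Pi.zero_apply])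
    obtain ⟨x, hx⟩ := (hexB z).1 h0
    refine ⟨x, funext fun i => ?_⟩
    rw [← D.lmul_emb, emb, LinearMap.comp_apply, LinearEquiv.coe_coe, hx, LinearEquiv.apply_symm_apply, D.lmul_beta]

theorem finite_etale [Module.FaithfullyFlat A B] : Module.Finite A D.algebra ∧ Algebra.Etale A D.algebra := by
  let ν : B ⊗[A] D.algebra ≃ₐ[B] (ι → B) := AlgEquiv.ofBijective D.comparison D.bijective_comparison
  haveI : Module.Finite B (B ⊗[A] D.algebra) := Module.Finite.equiv ν.toLinearEquiv.symm
  haveI : Algebra.Etale B (B ⊗[A] D.algebra) := Algebra.Etale.of_equiv ν.symm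
  exact ⟨Module.Finite.of_finite_tensorProduct_of_faithfullyFlat B,
    Algebra.Etale.of_etale_tensorProduct_of_faithfullyFlat B⟩

theorem mul_include (i j : ι) (c : D.algebra) : D.e i j * (1 ⊗ₜ c.1 j) = D.e i j * (c.1 i ⊗ₜ 1) := by
  have h : D.e i j * ∑ k, D.e i k * (1 ⊗ₜ c.1 k) = D.e i j * (1 ⊗ₜ c.1 j) := by
    rw [Finset.mul_sum, Finset.sum_eq_single j (fun k _ hk => by
      rw [← mul_assoc, D.orth i j k hk.symm, zero_mul]) (fun h => absurd (Finset.mem_univ j) h), ← mul_assoc,
      (D.idem i j).eq]
  rw [← h, c.2 i]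

end Datum

end SHExtend

end
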