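import Groth.Agent.S0538
import Groth.Agent.S0539
import Groth.Agent.SHSplitLib.Alg
import Groth.Agent.FFDescLib.Closure
import Groth.Agent.FFDescLib.EtaleGraph
import Groth.Prelude.Def_Pi1

/-! # Clopen subsets over the punctured spectrum of the square of a strict henselization -/

set_option autoImplicit false
set_option linter.style.haveILetI false
set_option backward.isDefEq.respectTransparency false
set_option backward.isDefEq.respectTransparency.types false
set_option maxHeartbeats 1000000
set_option synthInstance.maxHeartbeats 400000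

universe u

open TensorProduct CategoryTheory AlgebraicGeometry
open PrimeSpectrum (zeroLocus)

noncomputable section

namespace SHExtend

variable (A : Type u) [CommRing A] [IsLocalRing A]

/-- The primes lying off the closed point. -/
def off (T : Type u) [CommRing T] [Algebra A T] : Set (PrimeSpectrum T) :=
  PrimeSpectrum.comap (algebraMap A T) ⁻¹' {IsLocalRing.closedPoint A}ᶜ

theorem isOpen_off (T : Type u) [CommRing T] [Algebra A T] : IsOpen (off A T) :=
  (IsLocalRing.isClosed_singleton_closedPoint (R := A)).isOpen_compl.preimage (PrimeSpectrum.continuous_comap _)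

theorem isCompact_off (hA : IsCompact ({IsLocalRing.closedPoint A}ᶜ : Set (PrimeSpectrum A)))
    (T : Type u) [CommRing T] [Algebra A T] : IsCompact (off A T) :=
  QuasiCompact.isCompact_preimage (f := Spec.map (CommRingCat.ofHom (algebraMap A T))) _
    (IsLocalRing.isClosed_singleton_closedPoint (R := A)).isOpen_compl hA

theorem dense_off (hne : ∃ p : PrimeSpectrum A, p ≠ IsLocalRing.closedPoint A) (T : Type u) [CommRing T] [Algebra A T]
    [Module.Flat A T] : Dense (off A T) := fun z => by
  by_cases hz : z ∈ off A T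
  · exact subset_closure hz
  obtain ⟨p, hp⟩ := hne
  have hz' : PrimeSpectrum.comap (algebraMap A T) z = IsLocalRing.closedPoint A := by simpa [off] using hz
  have hgen : GeneralizingMap (PrimeSpectrum.comap (algebraMap A T)) :=
    RingHom.Flat.generalizingMap_comap (RingHom.flat_algebraMap_iff.2 ‹_›)
  obtain ⟨y, hy, hyp⟩ := hgen (hz'.symm ▸ IsLocalRing.specializes_closedPoint p :
    p ⤳ PrimeSpectrum.comap (algebraMap A T) z)
  exact hy.mem_closed isClosed_closure (subset_closure (show y ∈ off A T by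
    show PrimeSpectrum.comap (algebraMap A T) y ∉ ({IsLocalRing.closedPoint A} : Set _)
    rw [hyp]; exact hp))

theorem eq_of_basicOpen_eq (T : Type u) [CommRing T] [Algebra A T] (hd : Dense (off A T)) {e e' : T}
    (he : IsIdempotentElem e) (he' : IsIdempotentElem e')
    (h : ∀ y ∈ off A T, y ∈ PrimeSpectrum.basicOpen e ↔ y ∈ PrimeSpectrum.basicOpen e') : e = e' := by
  have hclo : ∀ {f : T}, IsIdempotentElem f → IsClopen (PrimeSpectrum.basicOpen f : Set (PrimeSpectrum T)) :=
    fun {f} hf => PrimeSpectrum.isClopen_iff.2 ⟨f, hf, rfl⟩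
  have key : ∀ {f g : T}, IsIdempotentElem f → IsIdempotentElem g →
      (∀ y ∈ off A T, y ∈ PrimeSpectrum.basicOpen f → y ∈ PrimeSpectrum.basicOpen g) →
      (PrimeSpectrum.basicOpen f : Set (PrimeSpectrum T)) ⊆ PrimeSpectrum.basicOpen g := fun {f g} hf hg hfg => by
    refine (hd.open_subset_closure_inter (hclo hf).2).trans (closure_minimal ?_ (hclo hg).1)
    exact fun y ⟨hy, hyo⟩ => hfg y hyo hy
  exact PrimeSpectrum.basicOpen_injOn_isIdempotentElem he he' (SetLike.coe_injective
    ((key he he' fun y hy => (h y hy).1).antisymm (key he' he fun y hy => (h y hy).2)))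

variable (R : Type u) [CommRing R] [IsLocalRing R] [Algebra A R] [IsLocalHom (algebraMap A R)]
  [Hensel.IsStrictHenselization A R]

theorem eq_closedPoint (t : PrimeSpectrum R)
    (ht : PrimeSpectrum.comap (algebraMap A R) t = IsLocalRing.closedPoint A) : t = IsLocalRing.closedPoint R := by
  refine PrimeSpectrum.ext (le_antisymm (IsLocalRing.le_maximalIdeal t.isPrime.ne_top) ?_)
  show IsLocalRing.maximalIdeal R ≤ _
  rw [← Groth.Agent.S0538.result A R, Ideal.map_le_iff_le_comap]
  exact (congrArg PrimeSpectrum.asIdeal ht).ge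

/-- Separably closed residue fields generate: two compatible embeddings have the same image. -/
theorem range_subset (F : Type u) [Field F] (a b : IsLocalRing.ResidueField R →+* F)
    (h : a.comp (IsLocalRing.ResidueField.map (algebraMap A R)) = b.comp (IsLocalRing.ResidueField.map (algebraMap A R)))
    (x : IsLocalRing.ResidueField R) : b x ∈ a.range := by
  haveI := (inferInstance : Hensel.IsStrictHenselization A R).isSepClosure
  haveI : IsSepClosed (IsLocalRing.ResidueField R) := IsSepClosure.sep_closed (IsLocalRing.ResidueField A)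
  have hsep : (minpoly (IsLocalRing.ResidueField A) x).Separable :=
    (IsSepClosure.separable (k := IsLocalRing.ResidueField A) (K := IsLocalRing.ResidueField R)).isSeparable' x
  let f := (minpoly (IsLocalRing.ResidueField A) x).map (algebraMap _ (IsLocalRing.ResidueField R))
  have hs : f.Splits := IsSepClosed.splits_of_separable f hsep.map
  have hf0 : f ≠ 0 := Polynomial.map_ne_zero (minpoly.ne_zero (Algebra.IsIntegral.isIntegral x))
  have hbx : ((f.map a)).IsRoot (b x) := by
    have h1 : (f.map a) = ((minpoly (IsLocalRing.ResidueField A) x).map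
        (algebraMap _ (IsLocalRing.ResidueField R))).map b := by
      simp only [f, Polynomial.map_map]
      exact congrArg (fun k => Polynomial.map k _) h
    rw [h1, Polynomial.IsRoot, Polynomial.eval_map, Polynomial.eval₂_at_apply, Polynomial.eval_map,
      ← Polynomial.aeval_def, minpoly.aeval, map_zero]
  rw [← Polynomial.mem_roots (Polynomial.map_ne_zero hf0), hs.roots_map] at hbx
  obtain ⟨r, -, hr⟩ := Multiset.mem_map.1 hbx
  exact ⟨r, hr⟩

/-- Points of the square over the closed point are the graphs of automorphisms of the strict henselization. -/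
theorem exists_graph (z : PrimeSpectrum (R ⊗[A] R))
    (hz : PrimeSpectrum.comap (algebraMap A (R ⊗[A] R)) z = IsLocalRing.closedPoint A) :
    ∃ ε : R ⊗[A] R →ₐ[R] R, PrimeSpectrum.comap (ε : R ⊗[A] R →+* R) (IsLocalRing.closedPoint R) = z := by
  let p₁ : R →ₐ[A] R ⊗[A] R := Algebra.TensorProduct.includeLeft
  let p₂ : R →ₐ[A] R ⊗[A] R := Algebra.TensorProduct.includeRight
  let F := z.asIdeal.ResidueField
  let g := algebraMap (R ⊗[A] R) F
  have hker : RingHom.ker g = z.asIdeal := Ideal.ker_algebraMap_residueField z.asIdeal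
  have hp : ∀ p : R →ₐ[A] R ⊗[A] R, ∀ r ∈ IsLocalRing.maximalIdeal R, (g.comp (p : R →+* R ⊗[A] R)) r = 0 := by
    intro p r hr
    have hcl : PrimeSpectrum.comap (p : R →+* R ⊗[A] R) z = IsLocalRing.closedPoint R :=
      eq_closedPoint A R _ (by
        rw [← PrimeSpectrum.comap_comp_apply, p.comp_algebraMap, hz])
    rw [← RingHom.mem_ker, ← RingHom.comap_ker, hker]
    exact (congrArg PrimeSpectrum.asIdeal hcl).ge hr
  let a₁ : IsLocalRing.ResidueField R →+* F :=
    Ideal.Quotient.lift (IsLocalRing.maximalIdeal R) (g.comp (p₁ : R →+* R ⊗[A] R)) (hp p₁)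
  let a₂ : IsLocalRing.ResidueField R →+* F :=
    Ideal.Quotient.lift (IsLocalRing.maximalIdeal R) (g.comp (p₂ : R →+* R ⊗[A] R)) (hp p₂)
  have h12 : a₁.comp (IsLocalRing.ResidueField.map (algebraMap A R)) =
      a₂.comp (IsLocalRing.ResidueField.map (algebraMap A R)) := by
    refine RingHom.ext fun x => ?_
    obtain ⟨x, rfl⟩ := IsLocalRing.residue_surjective x
    show g (p₁ (algebraMap A R x)) = g (p₂ (algebraMap A R x))
    rw [p₁.commutes, p₂.commutes]
  let e₁ := a₁.rangeRestrictFieldEquiv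
  let τ : IsLocalRing.ResidueField R →+* IsLocalRing.ResidueField R :=
    e₁.symm.toRingHom.comp (a₂.codRestrict a₁.fieldRange fun x => range_subset A R F a₁ a₂ h12 x)
  have hτ : ∀ x, a₁ (τ x) = a₂ x := fun x => congrArg Subtype.val (e₁.apply_symm_apply _)
  haveI hh : HenselianLocalRing R := (inferInstance : Hensel.IsStrictHenselization A R).henselian
  obtain ⟨σ, ⟨hσA, hστ⟩, -⟩ := (inferInstance : Hensel.IsStrictHenselization A R).universal R (algebraMap A R) τ
    (RingHom.ext fun x => a₁.injective (by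
      rw [RingHom.comp_apply, hτ]
      exact (RingHom.congr_fun h12 x).symm))
  let σ' : R →ₐ[A] R := { toRingHom := σ, commutes' := RingHom.congr_fun hσA }
  let ε : R ⊗[A] R →ₐ[R] R := Algebra.TensorProduct.lift (AlgHom.id R R) σ' fun _ _ => Commute.all _ _
  have hkey : ∀ x : R ⊗[A] R, a₁ (IsLocalRing.residue R (ε x)) = g x := by
    intro x
    induction x using TensorProduct.induction_on with
    | zero => simp
    | tmul r s =>
      have : r ⊗ₜ[A] s = p₁ r * p₂ s := by simp [p₁, p₂, Algebra.TensorProduct.tmul_mul_tmul]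
      rw [this, map_mul, map_mul, map_mul]
      have h1 : ε (p₁ r) = r := by simp [ε, p₁]
      have h2 : ε (p₂ s) = σ s := by simp [ε, p₂, σ']
      rw [h1, h2, map_mul, hστ, hτ]
      rfl
    | add x y hx hy => simp only [map_add, hx, hy]
  refine ⟨ε, PrimeSpectrum.ext (Ideal.ext fun x => ?_)⟩
  show ε x ∈ IsLocalRing.maximalIdeal R ↔ _
  rw [← hker, RingHom.mem_ker, ← hkey, map_eq_zero, IsLocalRing.residue_eq_zero_iff]

/-- The generizations of a point of the graph lie on the graph. -/
theorem generization_mem (ε : R ⊗[A] R →ₐ[R] R) (y : PrimeSpectrum (R ⊗[A] R))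
    (hy : y ⤳ PrimeSpectrum.comap (ε : R ⊗[A] R →+* R) (IsLocalRing.closedPoint R)) :
    ∃ t, PrimeSpectrum.comap (ε : R ⊗[A] R →+* R) t = y := by
  classical
  have hsur : Function.Surjective (ε : R ⊗[A] R →+* R) := fun r => ⟨r ⊗ₜ 1, by
    rw [show (r ⊗ₜ[A] (1 : R)) = algebraMap R (R ⊗[A] R) r from rfl]
    exact ε.commutes r⟩
  suffices hle : RingHom.ker (ε : R ⊗[A] R →+* R) ≤ y.asIdeal by
    have : y ∈ Set.range (PrimeSpectrum.comap (ε : R ⊗[A] R →+* R)) := by
      rw [range_comap_of_surjective _ _ hsur]; exact hle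
    exact this
  intro x hx
  obtain ⟨e⟩ := HenselLib.nonempty_algEquiv_SH (R := A) R
  have hcov : ∀ r : R, HenselLib.EtCov (R := A) r :=
    HenselLib.etCov_of_algEquiv e (HenselLib.etCov_hens _)
  obtain ⟨c, hc⟩ := TensorProduct.exists_finset x
  obtain ⟨E, _, _, _, ξ, hξ⟩ := HenselLib.exists_etale_cover (c.image Prod.snd) fun r _ => hcov r
  let η : R ⊗[A] E →ₐ[R] R ⊗[A] R := Algebra.TensorProduct.map (AlgHom.id R R) ξ
  have hxη : x ∈ η.range := by
    rw [hc]
    refine Subalgebra.sum_mem _ fun i hi => ?_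
    obtain ⟨s, hs⟩ := hξ i.2 (Finset.mem_image_of_mem Prod.snd hi)
    exact ⟨i.1 ⊗ₜ s, (Algebra.TensorProduct.map_tmul _ _ _ _).trans (congrArg (i.1 ⊗ₜ[A] ·) hs)⟩
  obtain ⟨x', rfl⟩ := hxη
  let θ : R ⊗[A] E →ₐ[R] R := ε.comp η
  have hopen : IsOpen (Set.range (PrimeSpectrum.comap (θ : R ⊗[A] E →+* R))) := by
    let w := Spec.map (CommRingCat.ofHom (algebraMap R (R ⊗[A] E)))
    let s := Spec.map (CommRingCat.ofHom (θ : R ⊗[A] E →+* R))
    have hs : s ≫ w = 𝟙 _ := by
      rw [← Spec.map_comp, ← CommRingCat.ofHom_comp, θ.comp_algebraMap]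
      exact Spec.map_id _
    haveI : Etale w := (HasRingHomProperty.Spec_iff (P := @Etale)).2 (RingHom.etale_algebraMap.2 inferInstance)
    haveI := FFDescLib.isOpenImmersion_of_section w s hs
    exact s.isOpenEmbedding.isOpen_range
  have hmem : PrimeSpectrum.comap (η : R ⊗[A] E →+* R ⊗[A] R) y ∈
      Set.range (PrimeSpectrum.comap (θ : R ⊗[A] E →+* R)) :=
    (hy.map (PrimeSpectrum.continuous_comap _)).mem_open hopen
      ⟨IsLocalRing.closedPoint R, rfl⟩
  obtain ⟨t, ht⟩ := hmem
  have : x' ∈ (PrimeSpectrum.comap (η : R ⊗[A] E →+* R ⊗[A] R) y).asIdeal := by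
    rw [← ht]
    show θ x' ∈ t.asIdeal
    rw [show θ x' = 0 from hx]
    exact t.asIdeal.zero_mem
  exact this

/-- Clopen pieces over the punctured spectrum come from idempotents of the square. -/
theorem exists_idempotent (hA : IsCompact ({IsLocalRing.closedPoint A}ᶜ : Set (PrimeSpectrum A)))
    (hne : ∃ p : PrimeSpectrum A, p ≠ IsLocalRing.closedPoint A)
    (hconn : _root_.IsPreconnected ({IsLocalRing.closedPoint R}ᶜ : Set (PrimeSpectrum R)))
    {C₀ : Set (PrimeSpectrum (R ⊗[A] R))} (hC : IsOpen C₀) (hsub : C₀ ⊆ off A _)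
    (hD : IsOpen (off A (R ⊗[A] R) \ C₀)) :
    ∃ e : R ⊗[A] R, IsIdempotentElem e ∧ ∀ y ∈ off A _, y ∈ PrimeSpectrum.basicOpen e ↔ y ∈ C₀ := by
  haveI : Module.FaithfullyFlat A R := Groth.Agent.S0539.result A R
  haveI : Module.Flat A (R ⊗[A] R) := inferInstance
  set W := off A (R ⊗[A] R) with hW
  set D₀ := W \ C₀ with hD₀
  have hu : C₀ ∪ D₀ = W := Set.union_sdiff_cancel hsub
  have hd : Disjoint C₀ D₀ := Set.disjoint_sdiff_right
  have hspec : ∀ O : Set (PrimeSpectrum (R ⊗[A] R)), IsOpen O → (∃ G, IsClosed G ∧ O = G ∩ W) →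
      ∀ z ∈ closure O, ∃ y ∈ O, y ⤳ z := by
    rintro O hO ⟨G, hG, hOG⟩ z hz
    have hc : IsCompact O := by
      rw [hOG, Set.inter_comm]; exact (isCompact_off A hA _).inter_right hG
    let O' : (Spec (CommRingCat.of (R ⊗[A] R))).Opens := ⟨O, hO⟩
    haveI : CompactSpace O'.toScheme := isCompact_iff_compactSpace.1 hc
    haveI : QuasiCompact O'.ι := by
      rw [HasAffineProperty.iff_of_isAffine (P := @QuasiCompact)]
      infer_instance
    obtain ⟨a, ha⟩ := FFDescLib.exists_specializes_of_mem_closure_range O'.ι (y := z) (by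
      rw [Scheme.Opens.range_ι]; exact hz)
    exact ⟨_, a.2, ha⟩
  have hclC : closure C₀ ∩ W ⊆ C₀ := fun a ⟨ha, haW⟩ => by
    rcases hu.ge haW with h | h
    · exact h
    · exact absurd h (Set.disjoint_left.1 (hd.closure_left hD) ha)
  have hclD : closure D₀ ∩ W ⊆ D₀ := fun a ⟨ha, haW⟩ => by
    rcases hu.ge haW with h | h
    · exact absurd h (Set.disjoint_left.1 (hd.symm.closure_left hC) ha)
    · exact h
  have hcov : closure C₀ ∪ closure D₀ = Set.univ := by
    rw [← closure_union, hu]; exact (dense_off A hne _).closure_eq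
  have h0 : Disjoint (closure C₀) (closure D₀) := Set.disjoint_left.2 fun z hzC hzD => by
    by_cases hzW : z ∈ W
    · exact Set.disjoint_left.1 hd (hclC ⟨hzC, hzW⟩) (hclD ⟨hzD, hzW⟩)
    have hz : PrimeSpectrum.comap (algebraMap A (R ⊗[A] R)) z = IsLocalRing.closedPoint A := not_not.1 hzW
    obtain ⟨ε, hε⟩ := exists_graph A R z hz
    obtain ⟨y, hy, hyz⟩ := hspec C₀ hC ⟨closure C₀, isClosed_closure,
      (Set.subset_inter subset_closure hsub).antisymm hclC⟩ z hzC
    obtain ⟨y', hy', hy'z⟩ := hspec D₀ hD ⟨closure D₀, isClosed_closure,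
      (Set.subset_inter subset_closure Set.sdiff_subset).antisymm hclD⟩ z hzD
    obtain ⟨t, rfl⟩ := generization_mem A R ε y (hε ▸ hyz)
    obtain ⟨t', rfl⟩ := generization_mem A R ε y' (hε ▸ hy'z)
    let c := PrimeSpectrum.comap (ε : R ⊗[A] R →+* R)
    have hoff : ∀ s : PrimeSpectrum R, c s ∈ W ↔ s ≠ IsLocalRing.closedPoint R := fun s => by
      refine not_congr ⟨fun h => eq_closedPoint A R s ?_, ?_⟩
      · rw [Set.mem_singleton_iff] at h
        rw [← h, ← PrimeSpectrum.comap_comp_apply]
        exact congrArg (fun k => PrimeSpectrum.comap k s) (ε.restrictScalars A).comp_algebraMap.symm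
      · rintro rfl
        rw [show c (IsLocalRing.closedPoint R) = z from hε]
        exact hz
    have hsub' : ({IsLocalRing.closedPoint R}ᶜ : Set (PrimeSpectrum R)) ⊆ c ⁻¹' C₀ ∪ c ⁻¹' D₀ := fun s hs => by
      rw [← Set.preimage_union, hu]
      exact (hoff s).2 hs
    obtain ⟨s, -, hs1, hs2⟩ := hconn (c ⁻¹' C₀) (c ⁻¹' D₀) (hC.preimage (PrimeSpectrum.continuous_comap _))
      (hD.preimage (PrimeSpectrum.continuous_comap _)) hsub' ⟨t, (hoff t).1 (hsub hy), hy⟩
      ⟨t', (hoff t').1 hy'.1, hy'⟩
    exact Set.disjoint_left.1 hd hs1 hs2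
  have hclo : IsClopen (closure C₀) := by
    refine ⟨isClosed_closure, ?_⟩
    have : closure C₀ = (closure D₀)ᶜ := Set.ext fun a => ⟨fun h => Set.disjoint_left.1 h0 h,
      fun h => ((Set.ext_iff.1 hcov a).2 trivial).resolve_right h⟩
    rw [this]; exact isClosed_closure.isOpen_compl
  obtain ⟨e, he, hee⟩ := PrimeSpectrum.isClopen_iff.1 hclo
  refine ⟨e, he, fun y hy => ?_⟩
  rw [← SetLike.mem_coe, ← hee]
  exact ⟨fun h => hclC ⟨h, hy⟩, fun h => subset_closure h⟩

end SHExtend

end
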