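import Groth.Agent.SHExtendLib.Datum
import Groth.Agent.SHExtendLib.Local
import Groth.Agent.FEtSplitLib.Basic
import Mathlib.AlgebraicGeometry.Morphisms.FlatDescent
import Mathlib.AlgebraicGeometry.Sites.Fpqc

/-! # Covers of the punctured spectrum split over the strict henselization extend -/

set_option autoImplicit false
set_option linter.style.haveILetI false
set_option backward.isDefEq.respectTransparency false
set_option backward.isDefEq.respectTransparency.types false
set_option maxHeartbeats 1000000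
set_option synthInstance.maxHeartbeats 400000

universe u

open TensorProduct CategoryTheory CategoryTheory.Limits AlgebraicGeometry

noncomputable section

namespace SHExtend

variable (A R : Type u) [CommRing A] [IsLocalRing A] [CommRing R] [Algebra A R]

/-- The map of spectra. -/
abbrev pR : Spec (CommRingCat.of R) ⟶ Spec (CommRingCat.of A) := Spec.map (CommRingCat.ofHom (algebraMap A R))

/-- The base change of the punctured spectrum. -/
abbrev U' : Scheme.{u} := pullback (FEt.puncturedSpec A).ι (pR A R)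

theorem range_snd : Set.range (pullback.snd (FEt.puncturedSpec A).ι (pR A R)) = off A R := by
  rw [IsOpenImmersion.range_pullbackSnd]
  ext z
  simp [off, FEt.puncturedSpec]
  rfl

/-- The two projections of the square. -/
abbrev q₁ : Spec (CommRingCat.of (R ⊗[A] R)) ⟶ Spec (CommRingCat.of R) :=
  Spec.map (CommRingCat.ofHom (Algebra.TensorProduct.includeLeftRingHom : R →+* R ⊗[A] R))

/-- The second projection of the square. -/
abbrev q₂ : Spec (CommRingCat.of (R ⊗[A] R)) ⟶ Spec (CommRingCat.of R) :=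
  Spec.map (CommRingCat.ofHom (Algebra.TensorProduct.includeRight : R →ₐ[A] R ⊗[A] R).toRingHom)

theorem q_comp : q₁ A R ≫ pR A R = q₂ A R ≫ pR A R := by
  rw [← Spec.map_comp, ← Spec.map_comp]
  congr 1
  ext a
  exact (Algebra.TensorProduct.includeLeft : R →ₐ[A] R ⊗[A] R).commutes a |>.trans
    ((Algebra.TensorProduct.includeRight : R →ₐ[A] R ⊗[A] R).commutes a).symm

/-- The part of the square off the closed point. -/
def W : (Spec (CommRingCat.of (R ⊗[A] R))).Opens := ⟨off A (R ⊗[A] R), isOpen_off A _⟩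

theorem range_W_le (q : Spec (CommRingCat.of (R ⊗[A] R)) ⟶ Spec (CommRingCat.of R))
    (hq : q ≫ pR A R = q₁ A R ≫ pR A R) :
    Set.range ((W A R).ι ≫ q) ⊆ Set.range (pullback.snd (FEt.puncturedSpec A).ι (pR A R)) := by
  rintro _ ⟨y, rfl⟩
  rw [range_snd]
  show (pR A R) (((W A R).ι ≫ q) y) ∈ ({IsLocalRing.closedPoint A}ᶜ : Set (PrimeSpectrum A))
  rw [← Scheme.Hom.comp_apply, Category.assoc, hq]
  have h2 : y.1 ∈ off A (R ⊗[A] R) := y.2
  have h3 : PrimeSpectrum.comap (algebraMap A (R ⊗[A] R)) y.1 =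
      PrimeSpectrum.comap (algebraMap A R)
        (PrimeSpectrum.comap (Algebra.TensorProduct.includeLeftRingHom : R →+* R ⊗[A] R) y.1) := by
    rw [← PrimeSpectrum.comap_comp_apply]; rfl
  exact fun h => h2 (h3.trans h)

/-- The first projection to the base change of the punctured spectrum. -/
def r₁ : (W A R).toScheme ⟶ U' A R :=
  IsOpenImmersion.lift (pullback.snd _ _) ((W A R).ι ≫ q₁ A R) (range_W_le A R _ rfl)

/-- The second projection to the base change of the punctured spectrum. -/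
def r₂ : (W A R).toScheme ⟶ U' A R :=
  IsOpenImmersion.lift (pullback.snd _ _) ((W A R).ι ≫ q₂ A R) (range_W_le A R _ (q_comp A R).symm)

theorem r_fst : r₁ A R ≫ pullback.fst _ _ = r₂ A R ≫ pullback.fst _ _ := by
  rw [← cancel_mono (FEt.puncturedSpec A).ι]
  simp only [Category.assoc, pullback.condition]
  rw [← Category.assoc, ← Category.assoc]
  simp only [r₁, r₂, IsOpenImmersion.lift_fac, Category.assoc, q_comp]

variable {A R}
variable {ι : Type u} [Fintype ι] [DecidableEq ι] {V : Scheme.{u}} (v : V ⟶ (FEt.puncturedSpec A : Scheme.{u}))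
  (e : pullback v (pullback.fst (FEt.puncturedSpec A).ι (pR A R)) ≅ ∐ fun _ : ι => U' A R)
  (he : e.hom ≫ Sigma.desc (fun _ : ι => 𝟙 (U' A R)) = pullback.snd _ _)

/-- The sections of the split cover. -/
def sec (i : ι) : U' A R ⟶ V := Sigma.ι (fun _ : ι => U' A R) i ≫ e.inv ≫ pullback.fst _ _

include he

theorem ι_inv_snd (i : ι) : Sigma.ι (fun _ : ι => U' A R) i ≫ e.inv ≫ pullback.snd _ _ = 𝟙 _ := by
  rw [← he, Iso.inv_hom_id_assoc, Sigma.ι_desc]

theorem sec_comp (i : ι) : sec v e i ≫ v = pullback.fst _ _ := by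
  simp only [sec, Category.assoc, pullback.condition, reassoc_of% (ι_inv_snd v e he i)]

theorem eq_comp_ι {T : Scheme.{u}} (x : T ⟶ pullback v (pullback.fst (FEt.puncturedSpec A).ι (pR A R))) (b : T ⟶ U' A R)
    (j : ι) (hs : x ≫ pullback.fst _ _ = b ≫ sec v e j) (hb : x ≫ pullback.snd _ _ = b) :
    x ≫ e.hom = b ≫ Sigma.ι (fun _ : ι => U' A R) j := by
  rw [← cancel_mono e.inv, Category.assoc, Iso.hom_inv_id, Category.comp_id]
  apply pullback.hom_ext
  · rw [hs]; simp [sec]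
  · rw [hb]; simp [ι_inv_snd v e he j]

theorem eq_of_range {T : Scheme.{u}} (x : T ⟶ pullback v (pullback.fst (FEt.puncturedSpec A).ι (pR A R))) (j : ι)
    (h : Set.range (x ≫ e.hom) ⊆ Set.range (Sigma.ι (fun _ : ι => U' A R) j)) :
    x ≫ pullback.fst _ _ = (x ≫ pullback.snd _ _) ≫ sec v e j := by
  let k := IsOpenImmersion.lift (Sigma.ι (fun _ : ι => U' A R) j) (x ≫ e.hom) h
  have hk : k ≫ Sigma.ι (fun _ : ι => U' A R) j ≫ e.inv = x := by
    rw [IsOpenImmersion.lift_fac_assoc, Category.assoc, Iso.hom_inv_id, Category.comp_id]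
  have h2 : x ≫ pullback.snd _ _ = k := by
    conv_lhs => rw [← hk]
    simp [ι_inv_snd v e he j]
  rw [h2]
  conv_lhs => rw [← hk]
  simp [sec]

/-- The comparison of the two pullbacks over the square. -/
def phi (i : ι) : (W A R).toScheme ⟶ pullback v (pullback.fst (FEt.puncturedSpec A).ι (pR A R)) :=
  pullback.lift (r₁ A R ≫ sec v e i) (r₂ A R) (by rw [Category.assoc, sec_comp v e he, r_fst])

/-- The locus where two sections agree. -/
def piece (i j : ι) : Set (PrimeSpectrum (R ⊗[A] R)) :=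
  (W A R).ι '' ((phi v e he i ≫ e.hom) ⁻¹' Set.range (Sigma.ι (fun _ : ι => U' A R) j))

theorem isOpen_piece (i j : ι) : IsOpen (piece v e he i j) :=
  (W A R).ι.isOpenEmbedding.isOpenMap _ ((Sigma.ι (fun _ : ι => U' A R) j).isOpenEmbedding.isOpen_range.preimage
    (phi v e he i ≫ e.hom).continuous)

theorem piece_subset (i j : ι) : piece v e he i j ⊆ off A _ := by
  rintro _ ⟨y, -, rfl⟩; exact y.2

theorem piece_disjoint (i : ι) {j k : ι} (h : j ≠ k) {y : PrimeSpectrum (R ⊗[A] R)} (hj : y ∈ piece v e he i j) :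
    y ∉ piece v e he i k := by
  rintro ⟨b, ⟨c, hc⟩, hb⟩
  obtain ⟨a, ⟨d, hd⟩, ha⟩ := hj
  obtain rfl : b = a := (W A R).ι.isOpenEmbedding.injective (hb.trans ha.symm)
  exact h (congrArg Sigma.fst ((sigmaι_eq_iff _ _ _ _ _).mp (hd.trans hc.symm)))

theorem exists_piece (i : ι) {y : PrimeSpectrum (R ⊗[A] R)} (hy : y ∈ off A _) : ∃ j, y ∈ piece v e he i j :=
  ⟨_, ⟨⟨y, hy⟩, FEtSplit.mem_range_sIdx ((phi v e he i ≫ e.hom) ⟨y, hy⟩), rfl⟩⟩

theorem isOpen_piece_compl (i j : ι) : IsOpen (off A (R ⊗[A] R) \ piece v e he i j) := by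
  have : off A (R ⊗[A] R) \ piece v e he i j = ⋃ k ∈ {k | k ≠ j}, piece v e he i k := by
    ext y
    simp only [Set.mem_sdiff, Set.mem_iUnion, Set.mem_ofPred_eq, exists_prop]
    refine ⟨fun ⟨hy, hj⟩ => ?_, fun ⟨k, hk, hy⟩ => ⟨piece_subset v e he i k hy, piece_disjoint v e he i hk hy⟩⟩
    obtain ⟨k, hk⟩ := exists_piece v e he i hy
    exact ⟨k, fun h => hj (h ▸ hk), hk⟩
  rw [this]
  exact isOpen_biUnion fun k _ => isOpen_piece v e he i k

theorem range_sub_piece {T : Scheme.{u}} (g : T ⟶ (W A R).toScheme) (i j : ι)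
    (h : g ≫ r₁ A R ≫ sec v e i = g ≫ r₂ A R ≫ sec v e j) : Set.range (g ≫ (W A R).ι) ⊆ piece v e he i j := by
  have h1 := eq_comp_ι v e he (g ≫ phi v e he i) (g ≫ r₂ A R) j (by simp [phi, h]) (by simp [phi])
  rintro _ ⟨t, rfl⟩
  refine ⟨g t, ⟨(g ≫ r₂ A R) t, ?_⟩, rfl⟩
  rw [← Scheme.Hom.comp_apply, ← Scheme.Hom.comp_apply, ← h1, Category.assoc]

theorem sec_eq_of_piece {T : Scheme.{u}} (g : T ⟶ (W A R).toScheme) (i j : ι)
    (h : Set.range (g ≫ (W A R).ι) ⊆ piece v e he i j) :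
    g ≫ r₁ A R ≫ sec v e i = g ≫ r₂ A R ≫ sec v e j := by
  have hr : Set.range ((g ≫ phi v e he i) ≫ e.hom) ⊆ Set.range (Sigma.ι (fun _ : ι => U' A R) j) := by
    rintro _ ⟨t, rfl⟩
    obtain ⟨y, hy, hyt⟩ := h ⟨t, rfl⟩
    obtain rfl : y = g t := (W A R).ι.isOpenEmbedding.injective hyt
    rw [Category.assoc]
    exact hy
  have := eq_of_range v e he (g ≫ phi v e he i) j hr
  simpa [phi] using this

omit he

/-- The point of the punctured spectrum attached to a map off the closed point. -/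
theorem exists_lift {T : Scheme.{u}} (a : T ⟶ Spec (CommRingCat.of R))
    (ha : ∀ t, (pR A R) (a t) ≠ IsLocalRing.closedPoint A) :
    ∃ a' : T ⟶ U' A R, a' ≫ pullback.snd _ _ = a :=
  ⟨IsOpenImmersion.lift (pullback.snd _ _) a (by rintro _ ⟨t, rfl⟩; rw [range_snd]; exact ha t),
    IsOpenImmersion.lift_fac _ _ _⟩

/-- A map to the square off the closed point. -/
theorem exists_liftW {T : Scheme.{u}} (g : T ⟶ Spec (CommRingCat.of (R ⊗[A] R)))
    (hg : ∀ t, g t ∈ off A (R ⊗[A] R)) (a b : T ⟶ U' A R) (ha : a ≫ pullback.snd _ _ = g ≫ q₁ A R)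
    (hb : b ≫ pullback.snd _ _ = g ≫ q₂ A R) :
    ∃ g' : T ⟶ (W A R).toScheme, g' ≫ (W A R).ι = g ∧ g' ≫ r₁ A R = a ∧ g' ≫ r₂ A R = b := by
  let g' := IsOpenImmersion.lift (W A R).ι g (by rintro _ ⟨t, rfl⟩; rw [Scheme.Opens.range_ι]; exact hg t)
  refine ⟨g', IsOpenImmersion.lift_fac _ _ _, ?_, ?_⟩ <;> rw [← cancel_mono (pullback.snd _ _)]
  · simp [g', r₁, ha]
  · simp [g', r₂, hb]

include he

theorem sec_eq_iff {T : Scheme.{u}} [Nonempty T] (g : T ⟶ (W A R).toScheme) (i j k : ι)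
    (hj : g ≫ r₁ A R ≫ sec v e i = g ≫ r₂ A R ≫ sec v e j)
    (hk : g ≫ r₁ A R ≫ sec v e i = g ≫ r₂ A R ≫ sec v e k) : j = k := by
  let t : T := Classical.arbitrary T
  by_contra h
  exact piece_disjoint v e he i h (range_sub_piece v e he g i j hj ⟨t, rfl⟩) (range_sub_piece v e he g i k hk ⟨t, rfl⟩)

/-- The idempotent datum attached to a cover split over the strict henselization. -/
theorem exists_datum [IsLocalRing R] [IsLocalHom (algebraMap A R)] [Hensel.IsStrictHenselization A R]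
    (hA : IsCompact ({IsLocalRing.closedPoint A}ᶜ : Set (PrimeSpectrum A)))
    (hne : ∃ p : PrimeSpectrum A, p ≠ IsLocalRing.closedPoint A)
    (hconn : _root_.IsPreconnected ({IsLocalRing.closedPoint R}ᶜ : Set (PrimeSpectrum R))) :
    ∃ D : Datum A R ι, ∀ i j, ∀ y ∈ off A (R ⊗[A] R),
      y ∈ PrimeSpectrum.basicOpen (D.e i j) ↔ y ∈ piece v e he i j := by
  classical
  haveI : Module.FaithfullyFlat A R := Groth.Agent.S0539.result A R
  have hex := fun i j => exists_idempotent A R hA hne hconn (isOpen_piece v e he i j) (piece_subset v e he i j)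
    (isOpen_piece_compl v e he i j)
  choose E hidem hE using hex
  have horth : ∀ i j k, j ≠ k → E i j * E i k = 0 := fun i j k h => by
    refine eq_of_basicOpen_eq A _ (dense_off A hne _) ((hidem i j).mul (hidem i k)) IsIdempotentElem.zero
      fun y hy => ?_
    simp only [PrimeSpectrum.basicOpen_mul, PrimeSpectrum.basicOpen_zero]
    exact ⟨fun ⟨h1, h2⟩ => absurd ((hE i k y hy).1 h2) (piece_disjoint v e he i h ((hE i j y hy).1 h1)),
      fun h => h.elim⟩
  have horth' : ∀ (T : Type u) [CommRing T] (f : ι → T), (∀ j, IsIdempotentElem (f j)) →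
      (∀ j k, j ≠ k → f j * f k = 0) →
      IsIdempotentElem (∑ j, f j) ∧ ∀ y : PrimeSpectrum T,
        y ∈ PrimeSpectrum.basicOpen (∑ j, f j) ↔ ∃ j, y ∈ PrimeSpectrum.basicOpen (f j) := by
    intro T _ f hf ho
    have h1 : ∀ j, (∑ k, f k) * f j = f j := fun j => by
      rw [Finset.sum_mul, Finset.sum_eq_single j (fun k _ hk => ho k j hk) (fun h => absurd (Finset.mem_univ j) h),
        (hf j).eq]
    refine ⟨by rw [IsIdempotentElem, Finset.mul_sum]; exact Finset.sum_congr rfl fun j _ => h1 j, fun y => ?_⟩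
    simp only [PrimeSpectrum.mem_basicOpen]
    refine ⟨fun h => ?_, fun ⟨j, hj⟩ h => hj (h1 j ▸ y.asIdeal.mul_mem_right _ h)⟩
    by_contra hc
    simp only [not_exists, not_not] at hc
    exact h (Submodule.sum_mem _ fun j _ => hc j)
  have hsum : ∀ i, ∑ j, E i j = 1 := fun i => by
    refine eq_of_basicOpen_eq A _ (dense_off A hne _) (horth' _ (E i) (hidem i) (horth i)).1 IsIdempotentElem.one
      fun y hy => ?_
    rw [(horth' _ (E i) (hidem i) (horth i)).2, PrimeSpectrum.basicOpen_one]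
    obtain ⟨j, hj⟩ := exists_piece v e he i hy
    exact ⟨fun _ => trivial, fun _ => ⟨j, (hE i j y hy).2 hj⟩⟩
  have key : ∀ (T : Type u) [CommRing T] [Algebra A T] (φ : R ⊗[A] R →ₐ[A] T) (y : PrimeSpectrum T), y ∈ off A T →
      ∀ (i j : ι) (K : Scheme.{u}) [Nonempty K] [Subsingleton K] (x : K ⟶ Spec (CommRingCat.of T)),
      (∀ t, x t = y) → ∀ a b : K ⟶ U' A R,
      a ≫ pullback.snd _ _ = x ≫ Spec.map (CommRingCat.ofHom (φ : R ⊗[A] R →+* T)) ≫ q₁ A R →
      b ≫ pullback.snd _ _ = x ≫ Spec.map (CommRingCat.ofHom (φ : R ⊗[A] R →+* T)) ≫ q₂ A R →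
      (y ∈ PrimeSpectrum.basicOpen (φ (E i j)) ↔ a ≫ sec v e i = b ≫ sec v e j) := by
    intro T _ _ φ y hy i j K _ _ x hx a b ha hb
    let z := PrimeSpectrum.comap (φ : R ⊗[A] R →+* T) y
    have hz : z ∈ off A (R ⊗[A] R) := by
      show PrimeSpectrum.comap _ (PrimeSpectrum.comap _ y) ∉ ({IsLocalRing.closedPoint A} : Set _)
      rw [← PrimeSpectrum.comap_comp_apply, φ.comp_algebraMap]
      exact hy
    have hgt : ∀ t, (x ≫ Spec.map (CommRingCat.ofHom (φ : R ⊗[A] R →+* T))) t = z := fun t => by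
      rw [Scheme.Hom.comp_apply, hx]
      rfl
    obtain ⟨g', hg', hga, hgb⟩ := exists_liftW (x ≫ Spec.map (CommRingCat.ofHom (φ : R ⊗[A] R →+* T)))
      (fun t => (hgt t).symm ▸ hz) a b (by rw [ha, Category.assoc]) (by rw [hb, Category.assoc])
    show z ∈ PrimeSpectrum.basicOpen (E i j) ↔ _
    rw [hE i j z hz, ← hga, ← hgb, Category.assoc, Category.assoc]
    refine ⟨fun h => sec_eq_of_piece v e he g' i j ?_, fun h => ?_⟩
    · rintro _ ⟨t, rfl⟩
      rw [hg', hgt]; exact h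
    · have := range_sub_piece v e he g' i j h ⟨Classical.arbitrary K, rfl⟩
      rwa [hg', hgt] at this
  have hpt : ∀ (T : Type u) [CommRing T] [Algebra A T] (y : PrimeSpectrum T), y ∈ off A T →
      ∃ (K : Scheme.{u}) (_ : Nonempty K) (_ : Subsingleton K) (x : K ⟶ Spec (CommRingCat.of T)),
        (∀ t, x t = y) ∧ ∀ (p : R →ₐ[A] T), ∃ a : K ⟶ U' A R,
          a ≫ pullback.snd _ _ = x ≫ Spec.map (CommRingCat.ofHom (p : R →+* T)) := by
    intro T _ _ y hy
    let F := y.asIdeal.ResidueField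
    haveI : Subsingleton (Spec (CommRingCat.of F)) := inferInstanceAs (Subsingleton (PrimeSpectrum F))
    haveI : Nonempty (Spec (CommRingCat.of F)) := inferInstanceAs (Nonempty (PrimeSpectrum F))
    refine ⟨Spec (CommRingCat.of F), inferInstance, inferInstance,
      Spec.map (CommRingCat.ofHom (algebraMap T F)), fun t => PrimeSpectrum.ext ?_, fun p => exists_lift _ fun t => ?_⟩
    · show Ideal.comap (algebraMap T F) (t : PrimeSpectrum F).asIdeal = y.asIdeal
      rw [show (t : PrimeSpectrum F).asIdeal = ⊥ from Ideal.eq_bot_of_prime _, ← RingHom.ker_eq_comap_bot,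
        Ideal.ker_algebraMap_residueField]
    · have ht : Spec.map (CommRingCat.ofHom (algebraMap T F)) t = y := PrimeSpectrum.ext (by
        show Ideal.comap (algebraMap T F) (t : PrimeSpectrum F).asIdeal = y.asIdeal
        rw [show (t : PrimeSpectrum F).asIdeal = ⊥ from Ideal.eq_bot_of_prime _, ← RingHom.ker_eq_comap_bot,
          Ideal.ker_algebraMap_residueField])
      rw [Scheme.Hom.comp_apply, ht]
      show PrimeSpectrum.comap _ (PrimeSpectrum.comap _ y) ≠ _
      rw [← PrimeSpectrum.comap_comp_apply, CommRingCat.hom_ofHom, CommRingCat.hom_ofHom, p.comp_algebraMap]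
      exact hy
  have hdiag : ∀ i j, Algebra.TensorProduct.lmul' A (E i j) = if i = j then 1 else 0 := fun i j => by
    refine eq_of_basicOpen_eq A R (dense_off A hne R) ((hidem i j).map _) (by
      split <;> simp [IsIdempotentElem]) fun y hy => ?_
    obtain ⟨K, _, _, x, hx, hp⟩ := hpt R y hy
    obtain ⟨a, ha⟩ := hp (AlgHom.id A R)
    have hq : ∀ q : R →ₐ[A] R ⊗[A] R, (Algebra.TensorProduct.lmul' A (S := R)).comp q = AlgHom.id A R →
        a ≫ pullback.snd _ _ = x ≫ Spec.map (CommRingCat.ofHom (Algebra.TensorProduct.lmul' A (S := R) : R ⊗[A] R →+* R)) ≫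
          Spec.map (CommRingCat.ofHom (q : R →+* R ⊗[A] R)) := fun q hq => by
      rw [ha, ← Spec.map_comp, ← CommRingCat.ofHom_comp]
      congr 3
      exact congrArg AlgHom.toRingHom hq.symm
    rw [key R _ y hy i j K x hx a a (hq Algebra.TensorProduct.includeLeft (by ext; simp))
      (hq Algebra.TensorProduct.includeRight (by ext; simp))]
    by_cases hij : i = j
    · subst hij
      rw [if_pos rfl, PrimeSpectrum.basicOpen_one]
      exact ⟨fun _ => trivial, fun _ => rfl⟩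
    · rw [if_neg hij, PrimeSpectrum.basicOpen_zero]
      refine ⟨fun h => absurd ?_ hij, fun h => h.elim⟩
      have h1 : ∀ l, a ≫ Sigma.ι (fun _ : ι => U' A R) l ≫ e.inv ≫ pullback.snd _ _ = a := fun l => by
        rw [ι_inv_snd v e he l, Category.comp_id]
      have h2 := (eq_comp_ι v e he (a ≫ Sigma.ι (fun _ : ι => U' A R) i ≫ e.inv) a j (by simpa [sec] using h)
        (by simpa using h1 i))
      simp only [Category.assoc, Iso.inv_hom_id, Category.comp_id] at h2
      have h3 := congrArg (fun k : K ⟶ ∐ fun _ : ι => U' A R => k (Classical.arbitrary K)) h2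
      exact congrArg Sigma.fst ((sigmaι_eq_iff _ _ _ _ _).mp h3)
  refine ⟨⟨E, hidem, horth, hsum, hdiag, fun i k => ?_⟩, hE⟩
  haveI : Module.Flat A (R ⊗[A] (R ⊗[A] R)) := inferInstance
  have ho : ∀ j l, j ≠ l → (p12 A R (E i j) * p23 A R (E j k)) * (p12 A R (E i l) * p23 A R (E l k)) = 0 :=
    fun j l h => by
      rw [mul_mul_mul_comm, ← map_mul, horth i j l h, map_zero, zero_mul]
  have hid : ∀ j, IsIdempotentElem (p12 A R (E i j) * p23 A R (E j k)) := fun j =>
    ((hidem i j).map _).mul ((hidem j k).map _)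
  refine eq_of_basicOpen_eq A _ (dense_off A hne _) ((hidem i k).map _) (horth' _ _ hid ho).1 fun y hy => ?_
  rw [(horth' _ _ hid ho).2]
  obtain ⟨K, _, _, x, hx, hp⟩ := hpt _ y hy
  let i₁ : R →ₐ[A] R ⊗[A] (R ⊗[A] R) := Algebra.TensorProduct.includeLeft
  let i₂ : R →ₐ[A] R ⊗[A] (R ⊗[A] R) := (Algebra.TensorProduct.includeRight).comp Algebra.TensorProduct.includeLeft
  let i₃ : R →ₐ[A] R ⊗[A] (R ⊗[A] R) := (Algebra.TensorProduct.includeRight).comp Algebra.TensorProduct.includeRight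
  obtain ⟨a₁, ha₁⟩ := hp i₁
  obtain ⟨a₂, ha₂⟩ := hp i₂
  obtain ⟨a₃, ha₃⟩ := hp i₃
  have hq : ∀ (φ : R ⊗[A] R →ₐ[A] R ⊗[A] (R ⊗[A] R)) (q : R →ₐ[A] R ⊗[A] R) (p : R →ₐ[A] R ⊗[A] (R ⊗[A] R))
      (a : K ⟶ U' A R), φ.comp q = p → a ≫ pullback.snd _ _ = x ≫ Spec.map (CommRingCat.ofHom (p : R →+* _)) →
      a ≫ pullback.snd _ _ = x ≫ Spec.map (CommRingCat.ofHom (φ : R ⊗[A] R →+* _)) ≫
        Spec.map (CommRingCat.ofHom (q : R →+* R ⊗[A] R)) := fun φ q p a h ha => by
    subst h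
    rw [ha, ← Spec.map_comp, ← CommRingCat.ofHom_comp]
    rfl
  have k13 := fun l m => key _ (p13 A R) y hy l m K x hx a₁ a₃
    (hq _ Algebra.TensorProduct.includeLeft i₁ _ (by ext; simp [p13, i₁, Algebra.TensorProduct.one_def]) ha₁)
    (hq _ Algebra.TensorProduct.includeRight i₃ _ (by ext; simp [p13, i₃]) ha₃)
  have k12 := fun l m => key _ (p12 A R) y hy l m K x hx a₁ a₂
    (hq _ Algebra.TensorProduct.includeLeft i₁ _ (by ext; simp [p12, i₁, Algebra.TensorProduct.one_def]) ha₁)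
    (hq _ Algebra.TensorProduct.includeRight i₂ _ (by ext; simp [p12, i₂]) ha₂)
  have k23 := fun l m => key _ (p23 A R) y hy l m K x hx a₂ a₃
    (hq _ Algebra.TensorProduct.includeLeft i₂ _ (by ext; simp [p23, i₂]) ha₂)
    (hq _ Algebra.TensorProduct.includeRight i₃ _ (by ext; simp [p23, i₃]) ha₃)
  simp only [PrimeSpectrum.basicOpen_mul, TopologicalSpace.Opens.mem_inf, k12, k23, k13]
  refine ⟨fun h => ?_, fun ⟨j, h1, h2⟩ => h1.trans h2⟩
  have hy' : PrimeSpectrum.comap (p12 A R : R ⊗[A] R →+* _) y ∈ off A (R ⊗[A] R) := by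
    show PrimeSpectrum.comap _ (PrimeSpectrum.comap _ y) ∉ ({IsLocalRing.closedPoint A} : Set _)
    rw [← PrimeSpectrum.comap_comp_apply, (p12 A R).comp_algebraMap]
    exact hy
  obtain ⟨j, hj⟩ := exists_piece v e he i hy'
  have h1 := (k12 i j).1 ((hE i j _ hy').2 hj)
  exact ⟨j, h1, h1.symm.trans h⟩

end SHExtend

end
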